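import Cfsg.Prelude.Def_Spor_Ru
import Cfsg.Agent.Lib.Recognition.RuLattice.Data

/-!
The rank 28 Gaussian lattice modulo 4 and modulo 2: the norm is divisible by 8, and is at least 16
off zero because the binary code of parities has minimum weight above 8.
-/

set_option autoImplicit false
set_option maxRecDepth 100000
-- one kernel check at a time keeps the peak memory low
set_option Elab.async false

namespace CfsgLib.Recognition.RuLattice

open Cfsg.Spor

/-- The integer coordinates of a vector. -/
def flat (v : RuVec) : Fin 56 → ℤ := fun k =>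
  if k.val % 2 = 0 then
    (v (⟨k.val / 8, by omega⟩, ⟨k.val / 2 % 4, Nat.mod_lt _ (by norm_num)⟩)).re
  else (v (⟨k.val / 8, by omega⟩, ⟨k.val / 2 % 4, Nat.mod_lt _ (by norm_num)⟩)).im

theorem flat_zero : flat 0 = 0 := funext fun k => by simp [flat]

theorem flat_add (v w : RuVec) : flat (v + w) = flat v + flat w := funext fun k => by
  simp only [flat, Pi.add_apply]
  split_ifs <;> simp

theorem flat_neg (v : RuVec) : flat (-v) = -flat v := funext fun k => by
  simp only [flat, Pi.neg_apply]
  split_ifs <;> simp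

/-- A position in the flattened vector. -/
def pos (p : RuIdx) (im : Fin 2) : Fin 56 := ⟨8 * p.1.val + 2 * p.2.val + im.val, by omega⟩

theorem flat_pos (v : RuVec) (p : RuIdx) : flat v (pos p 0) = (v p).re ∧ flat v (pos p 1) = (v p).im := by
  obtain ⟨n, t⟩ := p
  fin_cases n <;> fin_cases t <;> exact ⟨rfl, rfl⟩

theorem sum_sq_flat (v : RuVec) : ∑ k, flat v k * flat v k = ruNorm v := by
  rw [ruNorm, Fintype.sum_prod_type]
  simp only [Fin.sum_univ_succ, Fin.sum_univ_zero, Zsqrtd.norm_def, flat]
  simp
  ring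

theorem flat_injective : Function.Injective flat := fun v w h => funext fun p => by
  refine Zsqrtd.ext ?_ ?_
  · rw [← (flat_pos v p).1, ← (flat_pos w p).1, h]
  · rw [← (flat_pos v p).2, ← (flat_pos w p).2, h]

/-- A signed permutation of the coordinates. -/
def act (m : ℕ) (x : Fin 56 → ℤ) : Fin 56 → ℤ := fun k =>
  (sgnT.getD m []).getD k.val 0 * x (Fin.ofNat 56 ((srcT.getD m []).getD k.val 0))

/-- The vector with given integer coordinates. -/
def unflat (x : Fin 56 → ℤ) : RuVec := fun p => ⟨x (pos p 0), x (pos p 1)⟩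

theorem unflat_flat (v : RuVec) : unflat (flat v) = v :=
  funext fun p => Zsqrtd.ext (flat_pos v p).1 (flat_pos v p).2

theorem unflat_add (x y : Fin 56 → ℤ) : unflat (x + y) = unflat x + unflat y :=
  funext fun p => Zsqrtd.ext rfl rfl

theorem act_add (m : ℕ) (x y : Fin 56 → ℤ) : act m (x + y) = act m x + act m y :=
  funext fun k => by simp [act, mul_add]

/-- An additive map agreeing with a signed permutation on unit vectors agrees with it everywhere. -/
theorem flat_map_eq (f : RuVec → RuVec) (m : ℕ) (hf : ∀ a b, f (a + b) = f a + f b)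
    (h : ∀ i : Fin 56, flat (f (unflat (Pi.single i 1))) = act m (Pi.single i 1)) (v : RuVec) :
    flat (f v) = act m (flat v) := by
  let A : (Fin 56 → ℤ) →+ (Fin 56 → ℤ) :=
    AddMonoidHom.mk' (fun x => flat (f (unflat x))) fun a b => by rw [unflat_add, hf, flat_add]
  let B : (Fin 56 → ℤ) →+ (Fin 56 → ℤ) := AddMonoidHom.mk' (act m) (act_add m)
  have hAB : A = B := AddMonoidHom.functions_ext (Fin 56 → ℤ) A B fun i z => by
    have hz : (Pi.single i z : Fin 56 → ℤ) = z • Pi.single i 1 := by
      funext k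
      by_cases hk : k = i
      · subst hk; simp
      · simp [hk]
    rw [hz, map_zsmul, map_zsmul]
    exact congrArg (z • ·) (h i)
  have h1 : A (flat v) = B (flat v) := by rw [hAB]
  have h2 : flat (f (unflat (flat v))) = act m (flat v) := h1
  rwa [unflat_flat] at h2

theorem gI_add (a b : RuVec) : gI • (a + b) = gI • a + gI • b := smul_add _ _ _

theorem rj_add (a b : RuVec) : ruRj (a + b) = ruRj a + ruRj b := funext fun p => by
  obtain ⟨n, t⟩ := p
  fin_cases t <;> simp [ruRj, mul_add, add_comm]

theorem rk_add (a b : RuVec) : ruRk (a + b) = ruRk a + ruRk b := funext fun p => by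
  obtain ⟨n, t⟩ := p
  fin_cases t <;> simp [ruRk, mul_add, add_comm]

theorem sign_add (a b : RuVec) : ruSign (a + b) = ruSign a + ruSign b := funext fun p => by
  simp only [ruSign, Pi.add_apply]
  split_ifs <;> simp [add_comm]

theorem shift_add (a b : RuVec) : ruShift (a + b) = ruShift a + ruShift b := rfl

theorem unit_check : ∀ i : Fin 56,
    flat (gI • unflat (Pi.single i 1)) = act 0 (Pi.single i 1) ∧
    flat (ruRj (unflat (Pi.single i 1))) = act 1 (Pi.single i 1) ∧
    flat (ruRk (unflat (Pi.single i 1))) = act 2 (Pi.single i 1) ∧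
    flat (ruSign (unflat (Pi.single i 1))) = act 3 (Pi.single i 1) ∧
    flat (ruShift (unflat (Pi.single i 1))) = act 4 (Pi.single i 1) := by
  decide +kernel

theorem flat_maps (v : RuVec) : flat (gI • v) = act 0 (flat v) ∧ flat (ruRj v) = act 1 (flat v) ∧
    flat (ruRk v) = act 2 (flat v) ∧ flat (ruSign v) = act 3 (flat v) ∧ flat (ruShift v) = act 4 (flat v) :=
  ⟨flat_map_eq _ 0 gI_add (fun i => (unit_check i).1) v,
    flat_map_eq _ 1 rj_add (fun i => (unit_check i).2.1) v,
    flat_map_eq _ 2 rk_add (fun i => (unit_check i).2.2.1) v,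
    flat_map_eq _ 3 sign_add (fun i => (unit_check i).2.2.2.1) v,
    flat_map_eq _ 4 shift_add (fun i => (unit_check i).2.2.2.2) v⟩

/-- The generators modulo 4. -/
def gen (k : Fin 40) : Fin 56 → ℤ := fun i => ((basisN >>> (2 * (56 * k.val + i.val)) % 4 : ℕ) : ℤ)

/-- Membership in the span of the generators modulo 4, given by coefficients. -/
def cert (c : ℕ) (x : Fin 56 → ℤ) : Bool :=
  (List.finRange 56).all fun i =>
    (x i - ((List.finRange 40).map fun k => ((c >>> (2 * k.val) % 4 : ℕ) : ℤ) * gen k i).sum) % 4 == 0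

/-- The span of the generators together with everything divisible by 4. -/
def span : AddSubgroup (Fin 56 → ℤ) :=
  AddSubgroup.closure (Set.range gen ∪ Set.range fun i : Fin 56 => Pi.single i (4 : ℤ))

theorem gen_mem (k : Fin 40) : gen k ∈ span := AddSubgroup.subset_closure (Or.inl ⟨k, rfl⟩)

theorem four_mem (i : Fin 56) : (Pi.single i (4 : ℤ) : Fin 56 → ℤ) ∈ span :=
  AddSubgroup.subset_closure (Or.inr ⟨i, rfl⟩)

theorem mem_span_of_cert {c : ℕ} {x : Fin 56 → ℤ} (h : cert c x = true) : x ∈ span := by
  simp only [cert, List.all_eq_true, List.mem_finRange, beq_iff_eq, forall_const] at h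
  have e : x = ((List.finRange 40).map fun k => ((c >>> (2 * k.val) % 4 : ℕ) : ℤ) • gen k).sum +
      ∑ i, ((x i - ((List.finRange 40).map fun k => ((c >>> (2 * k.val) % 4 : ℕ) : ℤ) * gen k i).sum) / 4) • Pi.single i (4 : ℤ) := by
    funext j
    have hs : ∀ l : List (Fin 40), ((l.map fun k => ((c >>> (2 * k.val) % 4 : ℕ) : ℤ) • gen k).sum) j =
        (l.map fun k => ((c >>> (2 * k.val) % 4 : ℕ) : ℤ) * gen k j).sum := by
      intro l
      induction l with
      | nil => rfl
      | cons a l ih =>
        rw [List.map_cons, List.sum_cons, List.map_cons, List.sum_cons, Pi.add_apply, ih]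
        rfl
    rw [Pi.add_apply, Finset.sum_apply, Finset.sum_eq_single j, hs]
    · simp only [Pi.smul_apply, Pi.single_eq_same, smul_eq_mul]
      have := h j
      omega
    · intro b _ hb
      simp [Pi.single_eq_of_ne (Ne.symm hb)]
    · simp
  rw [e]
  refine add_mem (list_sum_mem fun y hy => ?_) (sum_mem fun i _ =>
    zsmul_mem (four_mem i) _)
  obtain ⟨k, -, rfl⟩ := List.mem_map.1 hy
  exact zsmul_mem (gen_mem k) _

theorem table_check : ∀ r : Fin 20, cert (tableCoef.getD r.val 0) (flat (ruTable.getD r.val 0)) = true := by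
  decide +kernel

theorem table_length : ruTable.length = 20 := rfl

theorem img_check0 : ∀ k : Fin 40,
    cert (imgCoef.getD (40 * 0 + k.val) 0) (act 0 (gen k)) = true := by
  decide +kernel

theorem img_check1 : ∀ k : Fin 40,
    cert (imgCoef.getD (40 * 1 + k.val) 0) (act 1 (gen k)) = true := by
  decide +kernel

theorem img_check2 : ∀ k : Fin 40,
    cert (imgCoef.getD (40 * 2 + k.val) 0) (act 2 (gen k)) = true := by
  decide +kernel

theorem img_check3 : ∀ k : Fin 40,
    cert (imgCoef.getD (40 * 3 + k.val) 0) (act 3 (gen k)) = true := by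
  decide +kernel

theorem img_check4 : ∀ k : Fin 40,
    cert (imgCoef.getD (40 * 4 + k.val) 0) (act 4 (gen k)) = true := by
  decide +kernel

theorem img_check : ∀ m : Fin 5, ∀ k : Fin 40,
    cert (imgCoef.getD (40 * m.val + k.val) 0) (act m.val (gen k)) = true := by
  intro m
  fin_cases m
  exacts [img_check0, img_check1, img_check2, img_check3, img_check4]

/-- The position of the image of a unit vector under a signed permutation. -/
def imgPos (m : ℕ) (i : Fin 56) : Fin 56 := Fin.ofNat 56 ((srcT.getD m []).idxOf i.val)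

theorem four_point : ∀ m : Fin 5, ∀ i : Fin 56, ∀ k : Fin 56,
    act m.val (Pi.single i 4) k =
      if k = imgPos m.val i then
        (if (decide ((sgnT.getD m.val []).getD (imgPos m.val i).val 0 = 1) : Bool) then 4 else -4) else 0 := by
  decide +kernel

theorem four_check : ∀ m : Fin 5, ∀ i : Fin 56, ∃ j : Fin 56, ∃ s : Bool,
    ∀ k : Fin 56, act m.val (Pi.single i 4) k = if k = j then (if s then 4 else -4) else 0 :=
  fun m i => ⟨_, _, four_point m i⟩

theorem act_mem (m : Fin 5) {x : Fin 56 → ℤ} (hx : x ∈ span) : act m.val x ∈ span := by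
  induction hx using AddSubgroup.closure_induction with
  | mem y hy =>
    rcases hy with ⟨k, rfl⟩ | ⟨i, rfl⟩
    · exact mem_span_of_cert (img_check m k)
    · obtain ⟨j, s, hk⟩ := four_check m i
      have h4 := four_mem j
      have e : act m.val (Pi.single i 4) = if s then Pi.single j (4 : ℤ) else -Pi.single j (4 : ℤ) := by
        funext k
        rw [hk k]
        cases s <;> by_cases hkj : k = j <;> simp [hkj]
      show act m.val (Pi.single i 4) ∈ span
      rw [e]
      cases s
      · exact neg_mem h4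
      · exact h4
  | zero =>
    rw [show act m.val 0 = 0 from funext fun k => by simp [act]]
    exact zero_mem _
  | add y z _ _ hy hz => rw [act_add]; exact add_mem hy hz
  | neg y _ hy =>
    rw [show act m.val (-y) = -act m.val y from funext fun k => by simp [act]]
    exact neg_mem hy

theorem flat_mem {x : RuVec} (hx : x ∈ ruLattice) : flat x ∈ span := by
  let L : AddSubgroup RuVec :=
    { carrier := {v | flat v ∈ span}
      add_mem' := fun {a b} ha hb => by
        show flat (a + b) ∈ span
        rw [flat_add]; exact add_mem ha hb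
      zero_mem' := by
        show flat 0 ∈ span
        rw [flat_zero]; exact zero_mem _
      neg_mem' := fun {a} ha => by
        show flat (-a) ∈ span
        rw [flat_neg]; exact neg_mem ha }
  rw [ruLattice, AddSubgroup.mem_sInf] at hx
  refine hx L ⟨fun v hv => ?_, fun v hv => ?_⟩
  · obtain ⟨r, hr, rfl⟩ := List.getElem_of_mem hv
    have h := table_check ⟨r, table_length ▸ hr⟩
    rw [List.getD_eq_getElem _ _ hr] at h
    exact mem_span_of_cert h
  · obtain ⟨e0, e1, e2, e3, e4⟩ := flat_maps v
    refine ⟨?_, ?_, ?_, ?_, ?_⟩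
    · show flat (gI • v) ∈ span
      rw [e0]; exact act_mem 0 hv
    · show flat (ruRj v) ∈ span
      rw [e1]; exact act_mem 1 hv
    · show flat (ruRk v) ∈ span
      rw [e2]; exact act_mem 2 hv
    · show flat (ruSign v) ∈ span
      rw [e3]; exact act_mem 3 hv
    · show flat (ruShift v) ∈ span
      rw [e4]; exact act_mem 4 hv

/-- The dot product. -/
def dot (x y : Fin 56 → ℤ) : ℤ := ∑ i, x i * y i

theorem dot_add (x y z : Fin 56 → ℤ) : dot (x + y) z = dot x z + dot y z := by
  simp [dot, add_mul, Finset.sum_add_distrib]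

theorem dot_comm (x y : Fin 56 → ℤ) : dot x y = dot y x := by simp [dot, mul_comm]

theorem dot_neg (x y : Fin 56 → ℤ) : dot (-x) y = -dot x y := by simp [dot]

theorem dot_single (i : Fin 56) (y : Fin 56 → ℤ) : dot (Pi.single i 4) y = 4 * y i := by
  rw [dot, Finset.sum_eq_single i]
  · simp
  · intro b _ hb; simp [Pi.single_eq_of_ne hb]
  · simp

theorem gen_dot : ∀ k l : Fin 40,
    ((List.finRange 56).map fun i => gen k i * gen l i).sum % 4 = 0 := by
  decide +kernel

theorem gen_sq : ∀ k : Fin 40, ((List.finRange 56).map fun i => gen k i * gen k i).sum % 8 = 0 := by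
  decide +kernel

theorem dot_eq_list (x y : Fin 56 → ℤ) : dot x y = ((List.finRange 56).map fun i => x i * y i).sum := by
  rw [dot, ← List.sum_toFinset _ (List.nodup_finRange 56), List.toFinset_finRange]

theorem dot_mem {x y : Fin 56 → ℤ} (hx : x ∈ span) (hy : y ∈ span) : (4 : ℤ) ∣ dot x y := by
  induction hx using AddSubgroup.closure_induction with
  | mem u hu =>
    rcases hu with ⟨k, rfl⟩ | ⟨i, rfl⟩
    · induction hy using AddSubgroup.closure_induction with
      | mem w hw =>
        rcases hw with ⟨l, rfl⟩ | ⟨i, rfl⟩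
        · rw [dot_eq_list]; exact Int.dvd_of_emod_eq_zero (gen_dot k l)
        · rw [dot_comm, dot_single]; exact dvd_mul_right _ _
      | zero => simp [dot]
      | add a b _ _ ha hb => rw [dot_comm, dot_add, dot_comm a, dot_comm b]; exact dvd_add ha hb
      | neg a _ ha => rw [dot_comm, dot_neg, dot_comm a]; exact dvd_neg.2 ha
    · rw [dot_single]; exact dvd_mul_right _ _
  | zero => simp [dot]
  | add a b _ _ ha hb => rw [dot_add]; exact dvd_add ha hb
  | neg a _ ha => rw [dot_neg]; exact dvd_neg.2 ha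

theorem sq_mem {x : Fin 56 → ℤ} (hx : x ∈ span) : (8 : ℤ) ∣ dot x x := by
  induction hx using AddSubgroup.closure_induction with
  | mem u hu =>
    rcases hu with ⟨k, rfl⟩ | ⟨i, rfl⟩
    · rw [dot_eq_list]; exact Int.dvd_of_emod_eq_zero (gen_sq k)
    · show 8 ∣ dot (Pi.single i 4) (Pi.single i 4)
      rw [dot_single, Pi.single_eq_same]; norm_num
  | zero => simp [dot]
  | add a b ha hb iha ihb =>
    rw [dot_add, dot_comm a, dot_comm b, dot_add, dot_add, dot_comm b a]
    obtain ⟨m, hm⟩ := dot_mem ha hb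
    omega
  | neg a _ iha => rwa [dot_neg, dot_comm, dot_neg, neg_neg]

/-- Combinations of a list of words. -/
inductive Combo : List ℕ → ℕ → Prop
  | nil : Combo [] 0
  | skip {g : ℕ} {l : List ℕ} {w : ℕ} : Combo l w → Combo (g :: l) w
  | take {g : ℕ} {l : List ℕ} {w : ℕ} : Combo l w → Combo (g :: l) (w ^^^ g)

theorem Combo.zero : ∀ l : List ℕ, Combo l 0
  | [] => .nil
  | _ :: l => (Combo.zero l).skip

theorem Combo.xor {l : List ℕ} {a : ℕ} (ha : Combo l a) : ∀ {b : ℕ}, Combo l b → Combo l (a ^^^ b) := by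
  induction ha with
  | nil => intro b hb; cases hb; exact .nil
  | @skip g l w _ ih =>
    intro b hb
    cases hb with
    | skip hb => exact (ih hb).skip
    | take hb => rw [← Nat.xor_assoc]; exact (ih hb).take
  | @take g l w _ ih =>
    intro b hb
    cases hb with
    | skip hb => rw [Nat.xor_right_comm]; exact (ih hb).take
    | @take _ _ v hb =>
      rw [show w ^^^ g ^^^ (v ^^^ g) = w ^^^ v by
        rw [Nat.xor_right_comm w g, ← Nat.xor_assoc, Nat.xor_assoc (w ^^^ v), Nat.xor_self, Nat.xor_zero]]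
      exact (ih hb).skip

/-- The combination with given coefficient bits. -/
def combo : List ℕ → ℕ → ℕ
  | [], _ => 0
  | g :: l, c => if c % 2 = 1 then combo l (c / 2) ^^^ g else combo l (c / 2)

theorem Combo.of_bits : ∀ (l : List ℕ) (c : ℕ), Combo l (combo l c)
  | [], _ => .nil
  | g :: l, c => by
    rw [combo]
    split_ifs
    · exact (Combo.of_bits l _).take
    · exact (Combo.of_bits l _).skip

/-- The weight of a word of seven bytes. -/
def weight (w : ℕ) : ℕ :=
  popT >>> (4 * (w % 256)) % 16 + popT >>> (4 * (w >>> 8 % 256)) % 16 +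
    popT >>> (4 * (w >>> 16 % 256)) % 16 + popT >>> (4 * (w >>> 24 % 256)) % 16 +
    popT >>> (4 * (w >>> 32 % 256)) % 16 + popT >>> (4 * (w >>> 40 % 256)) % 16 +
    popT >>> (4 * (w >>> 48 % 256)) % 16

theorem popT_ok : ∀ a : Fin 256,
    popT >>> (4 * a.val) % 16 = ∑ i ∈ Finset.range 8, (a.val.testBit i).toNat := by
  decide +kernel

theorem weight_eq (w : ℕ) : weight w = ∑ i ∈ Finset.range 56, (w.testBit i).toNat := by
  have h : ∀ b, popT >>> (4 * (w >>> b % 256)) % 16 = ∑ i ∈ Finset.range 8, (w.testBit (b + i)).toNat := by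
    intro b
    rw [popT_ok ⟨w >>> b % 256, Nat.mod_lt _ (by norm_num)⟩]
    refine Finset.sum_congr rfl fun i hi => ?_
    show ((w >>> b % 256).testBit i).toNat = _
    rw [show (256 : ℕ) = 2 ^ 8 from rfl, Nat.testBit_mod_two_pow, Nat.testBit_shiftRight]
    simp [Finset.mem_range.1 hi]
  have h0 := h 0
  simp only [Nat.shiftRight_zero, Nat.zero_add] at h0
  rw [weight, h0, h 8, h 16, h 24, h 32, h 40, h 48, show (56 : ℕ) = 8 + 8 + 8 + 8 + 8 + 8 + 8 from rfl]
  simp only [Finset.sum_range_add]

/-- Combinations, with the number of summands. -/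
inductive ComboN : List ℕ → ℕ → ℕ → Prop
  | nil : ComboN [] 0 0
  | skip {g : ℕ} {l : List ℕ} {w n : ℕ} : ComboN l w n → ComboN (g :: l) w n
  | take {g : ℕ} {l : List ℕ} {w n : ℕ} : ComboN l w n → ComboN (g :: l) (w ^^^ g) (n + 1)

theorem Combo.exists_count {l : List ℕ} {w : ℕ} (hw : Combo l w) : ∃ n, ComboN l w n := by
  induction hw with
  | nil => exact ⟨0, .nil⟩
  | skip _ ih => obtain ⟨n, hn⟩ := ih; exact ⟨n, hn.skip⟩
  | take _ ih => obtain ⟨n, hn⟩ := ih; exact ⟨n + 1, hn.take⟩

/-- Combinations of at most `b` summands are zero, heavy or one of the eights. -/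
def chkB : List ℕ → ℕ → ℕ → Bool
  | [], a, _ => a == 0 || Nat.blt 8 (weight a) || eightT.contains a
  | g :: l, a, b => chkB l a b && (b == 0 || chkB l (a ^^^ g) (b - 1))

theorem chkB_spec {l : List ℕ} {w n : ℕ} (hw : ComboN l w n) : ∀ a b, n ≤ b → chkB l a b = true →
    a ^^^ w = 0 ∨ 8 < weight (a ^^^ w) ∨ a ^^^ w ∈ eightT := by
  induction hw with
  | nil => intro a b _ h; simpa [chkB, Nat.blt_eq, or_assoc] using h
  | @skip g l w n _ ih =>
    intro a b hb h
    simp only [chkB, Bool.and_eq_true] at h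
    exact ih a b hb h.1
  | @take g l w n _ ih =>
    intro a b hb h
    simp only [chkB, Bool.and_eq_true, Bool.or_eq_true, beq_iff_eq] at h
    rcases h.2 with h0 | h2
    · omega
    have := ih (a ^^^ g) (b - 1) (by omega) h2
    rwa [Nat.xor_assoc, Nat.xor_comm g w] at this

theorem checkA : chkB (parA.map Prod.fst) 0 4 = true := by decide +kernel

theorem checkB : chkB (parB.map Prod.fst) 0 4 = true := by decide +kernel

/-- Each basis vector has one bit in the mask, at its pivot, which later vectors avoid. -/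
def unitOK (M : ℕ) : List (ℕ × ℕ) → Bool
  | [] => true
  | (g, p) :: l => (g &&& M) == 2 ^ p && Nat.blt p 56 && (l.all fun q => !q.1.testBit p) && unitOK M l

theorem Combo.testBit_false {l : List ℕ} {w p : ℕ} (hw : Combo l w) : (∀ g ∈ l, g.testBit p = false) →
    w.testBit p = false := by
  induction hw with
  | nil => intro _; exact Nat.zero_testBit p
  | skip _ ih => intro h; exact ih fun g hg => h g (List.mem_cons_of_mem _ hg)
  | @take g l w _ ih =>
    intro h
    rw [Nat.testBit_xor, ih fun g' hg => h g' (List.mem_cons_of_mem _ hg), h g List.mem_cons_self]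
    rfl

theorem ComboN.combo {l : List ℕ} {w n : ℕ} (hw : ComboN l w n) : Combo l w := by
  induction hw with
  | nil => exact .nil
  | skip _ ih => exact ih.skip
  | take _ ih => exact ih.take

theorem weight_mask : ∀ {M : ℕ} {T : List (ℕ × ℕ)} {w n : ℕ}, unitOK M T = true →
    ComboN (T.map Prod.fst) w n → weight (w &&& M) = n
  | M, [], w, n, _, hw => by
    cases hw
    rw [Nat.zero_and]
    rfl
  | M, (g, p) :: l, w, n, h, hw => by
    simp only [unitOK, Bool.and_eq_true, beq_iff_eq, Nat.blt_eq, List.all_eq_true,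
      Bool.not_eq_true'] at h
    obtain ⟨⟨⟨hg, hp⟩, hall⟩, hrest⟩ := h
    rw [List.map_cons] at hw
    cases hw with
    | skip hw => exact weight_mask hrest hw
    | @take _ _ v m hw =>
      have hv : (v &&& M).testBit p = false := by
        have hq : ∀ g' ∈ l.map Prod.fst, g'.testBit p = false := by
          intro g' hg'
          obtain ⟨q, hq, rfl⟩ := List.mem_map.1 hg'
          exact hall q hq
        rw [Nat.testBit_and, hw.combo.testBit_false hq]
        rfl
      rw [← weight_mask hrest hw, Nat.and_xor_distrib_right, hg, weight_eq, weight_eq,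
        ← Finset.add_sum_erase _ _ (Finset.mem_range.2 hp), ← Finset.add_sum_erase _ _ (Finset.mem_range.2 hp)]
      simp only [Nat.testBit_xor, Nat.testBit_two_pow_self, hv, Bool.false_bne, Bool.toNat_true,
        Bool.toNat_false]
      rw [Finset.sum_congr rfl fun i hi => ?_, zero_add, add_comm]
      rw [Nat.testBit_two_pow_of_ne (Ne.symm (Finset.mem_erase.1 hi).1)]
      simp

theorem unitA : unitOK maskA parA = true := by decide +kernel

theorem unitB : unitOK maskB parB = true := by decide +kernel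

theorem parA_lt : ∀ g ∈ parA.map Prod.fst, g < 2 ^ 56 := by decide +kernel

theorem parB_lt : ∀ g ∈ parB.map Prod.fst, g < 2 ^ 56 := by decide +kernel

theorem Combo.lt {l : List ℕ} {w : ℕ} (hw : Combo l w) : (∀ g ∈ l, g < 2 ^ 56) → w < 2 ^ 56 := by
  induction hw with
  | nil => intro _; norm_num
  | skip _ ih => intro h; exact ih fun g hg => h g (List.mem_cons_of_mem _ hg)
  | take _ ih =>
    intro h
    exact Nat.xor_lt_two_pow (ih fun g' hg => h g' (List.mem_cons_of_mem _ hg)) (h _ List.mem_cons_self)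

theorem mask_disjoint : maskA &&& maskB = 0 := by decide +kernel

theorem weight_split (w : ℕ) : weight (w &&& maskA) + weight (w &&& maskB) ≤ weight w := by
  rw [weight_eq, weight_eq, weight_eq, ← Finset.sum_add_distrib]
  refine Finset.sum_le_sum fun i _ => ?_
  have hd : (maskA &&& maskB).testBit i = false := by rw [mask_disjoint, Nat.zero_testBit]
  rw [Nat.testBit_and] at hd
  rw [Nat.testBit_and, Nat.testBit_and]
  revert hd
  cases w.testBit i <;> cases maskA.testBit i <;> cases maskB.testBit i <;> simp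

theorem par_checkA : ∀ k : Fin 40, ∀ i : Fin 56,
    (combo (parA.map Prod.fst) (coefA.getD k.val 0)).testBit i.val = decide (gen k i % 2 = 1) := by
  decide +kernel

theorem par_checkB : ∀ k : Fin 40, ∀ i : Fin 56,
    (combo (parB.map Prod.fst) (coefB.getD k.val 0)).testBit i.val = decide (gen k i % 2 = 1) := by
  decide +kernel

theorem parity_mem {T : List ℕ} {coef : List ℕ} (hT : ∀ k : Fin 40, ∀ i : Fin 56,
      (combo T (coef.getD k.val 0)).testBit i.val = decide (gen k i % 2 = 1))
    {x : Fin 56 → ℤ} (hx : x ∈ span) :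
    ∃ w, Combo T w ∧ ∀ i : Fin 56, w.testBit i.val = decide (x i % 2 = 1) := by
  induction hx using AddSubgroup.closure_induction with
  | mem u hu =>
    rcases hu with ⟨k, rfl⟩ | ⟨j, rfl⟩
    · exact ⟨_, Combo.of_bits _ _, hT k⟩
    · refine ⟨0, Combo.zero _, fun i => ?_⟩
      by_cases h : i = j <;> simp [h]
  | zero => exact ⟨0, Combo.zero _, fun i => by simp⟩
  | add a b _ _ ha hb =>
    obtain ⟨u, hu, eu⟩ := ha
    obtain ⟨v, hv, ev⟩ := hb
    refine ⟨u ^^^ v, hu.xor hv, fun i => ?_⟩
    rw [Nat.testBit_xor, eu, ev, Pi.add_apply]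
    rcases Int.emod_two_eq_zero_or_one (a i) with h1 | h1 <;>
      rcases Int.emod_two_eq_zero_or_one (b i) with h2 | h2 <;>
      simp [h1, h2, Int.add_emod]
  | neg a _ ha =>
    obtain ⟨u, hu, eu⟩ := ha
    refine ⟨u, hu, fun i => ?_⟩
    rw [eu, Pi.neg_apply]
    simp [Int.neg_emod_two]

theorem word_cases {x : Fin 56 → ℤ} (hx : x ∈ span) : ∃ w,
    (∀ i : Fin 56, w.testBit i.val = decide (x i % 2 = 1)) ∧ (w = 0 ∨ 8 < weight w ∨ w ∈ eightT) := by
  obtain ⟨w, hw, hb⟩ := parity_mem par_checkA hx
  obtain ⟨w', hw', hb'⟩ := parity_mem par_checkB hx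
  have he : w = w' := by
    refine Nat.eq_of_testBit_eq fun i => ?_
    by_cases hi : i < 56
    · exact (hb ⟨i, hi⟩).trans (hb' ⟨i, hi⟩).symm
    · have hp : 2 ^ 56 ≤ 2 ^ i := Nat.pow_le_pow_right (by norm_num) (by omega)
      rw [Nat.testBit_lt_two_pow ((hw.lt parA_lt).trans_le hp),
        Nat.testBit_lt_two_pow ((hw'.lt parB_lt).trans_le hp)]
  subst he
  refine ⟨w, hb, ?_⟩
  by_cases h8 : 8 < weight w
  · exact Or.inr (Or.inl h8)
  obtain ⟨n, hn⟩ := hw.exists_count
  obtain ⟨n', hn'⟩ := hw'.exists_count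
  have h1 := weight_mask unitA hn
  have h2 := weight_mask unitB hn'
  have h3 := weight_split w
  rcases Nat.lt_or_ge 4 n with h4 | h4
  · have := chkB_spec hn' 0 4 (by omega) checkB
    rwa [Nat.zero_xor] at this
  · have := chkB_spec hn 0 4 h4 checkA
    rwa [Nat.zero_xor] at this

/-- The positions in the support of a word of weight 8. -/
def eightIdx (e : Fin 7) (n : Fin 8) : Fin 56 := Fin.ofNat 56 ((eightPos.getD e.val []).getD n.val 0)

theorem eight_length : eightT.length = 7 := by decide +kernel

theorem eight_support : ∀ e : Fin 7, ∀ i : Fin 56,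
    (eightT.getD e.val 0).testBit i.val = true → ∃ n : Fin 8, eightIdx e n = i := by
  decide +kernel

theorem eight_bits : ∀ e : Fin 7, ∀ n : Fin 8, (eightT.getD e.val 0).testBit (eightIdx e n).val = true := by
  decide +kernel

theorem eight_injective : ∀ e : Fin 7, ∀ n m : Fin 8, eightIdx e n = eightIdx e m → n = m := by
  decide +kernel

theorem eight_signs : ∀ e : Fin 7, ∀ s : Fin 256, ∃ k : Fin 40,
    ((List.finRange 8).map fun n : Fin 8 =>
      (if s.val.testBit n.val then 1 else -1) * gen k (eightIdx e n)).sum % 4 ≠ 0 := by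
  decide +kernel

theorem exists_signs : ∀ f : Fin 8 → Bool, ∃ s : Fin 256, ∀ n : Fin 8, s.val.testBit n.val = f n := fun f =>
  ⟨⟨Nat.ofBits f, Nat.ofBits_lt_two_pow f⟩, fun n => Nat.testBit_ofBits_lt f n.val n.isLt⟩

/-- No vector of the span is a signed word of weight 8. -/
theorem not_eight {x : Fin 56 → ℤ} (hx : x ∈ span) {w : ℕ} (hw : w ∈ eightT)
    (hb : ∀ i : Fin 56, w.testBit i.val = decide (x i % 2 = 1)) : 8 < dot x x := by
  obtain ⟨e, he, rfl⟩ := List.getElem_of_mem hw
  let e' : Fin 7 := ⟨e, eight_length ▸ he⟩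
  have hg : eightT[e] = eightT.getD e'.val 0 := (List.getD_eq_getElem _ _ he).symm
  rw [hg] at hb
  by_contra hcon
  let P : Finset (Fin 56) := Finset.univ.image (eightIdx e')
  have hinj : Function.Injective (eightIdx e') := fun n m h => eight_injective e' n m h
  have hodd : ∀ n : Fin 8, x (eightIdx e' n) % 2 = 1 := fun n => by
    have := hb (eightIdx e' n)
    rw [eight_bits e' n] at this
    exact of_decide_eq_true this.symm
  have hsplit := Finset.sum_add_sum_compl P (fun i => x i * x i)
  have hPsum : ∑ i ∈ P, x i * x i = ∑ n, x (eightIdx e' n) * x (eightIdx e' n) :=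
    Finset.sum_image fun a _ b _ h => hinj h
  have hone : ∀ n : Fin 8, 1 ≤ x (eightIdx e' n) * x (eightIdx e' n) := fun n => by
    have h1 : x (eightIdx e' n) ≠ 0 := fun h => by have := hodd n; rw [h] at this; norm_num at this
    have := mul_self_pos.2 h1
    omega
  have h8 : (8 : ℤ) ≤ ∑ n, x (eightIdx e' n) * x (eightIdx e' n) := by
    calc (8 : ℤ) = ∑ _n : Fin 8, (1 : ℤ) := by simp
      _ ≤ _ := Finset.sum_le_sum fun n _ => hone n
  have hC0 : 0 ≤ ∑ i ∈ Pᶜ, x i * x i := Finset.sum_nonneg fun i _ => mul_self_nonneg _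
  have hdot : ∑ i, x i * x i ≤ 8 := by
    have : dot x x ≤ 8 := by omega
    exact this
  have hout : ∀ i, (∀ n, eightIdx e' n ≠ i) → x i = 0 := fun i hi => by
    refine mul_self_eq_zero.1 ((Finset.sum_eq_zero_iff_of_nonneg fun j _ => mul_self_nonneg (x j)).1
      (by linarith : ∑ j ∈ Pᶜ, x j * x j = 0) i ?_)
    rw [Finset.mem_compl, Finset.mem_image]
    rintro ⟨n, -, rfl⟩
    exact hi n rfl
  have hpm : ∀ n : Fin 8, x (eightIdx e' n) = 1 ∨ x (eightIdx e' n) = -1 := fun n => by
    have hs := Finset.add_sum_erase Finset.univ (fun m => x (eightIdx e' m) * x (eightIdx e' m))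
      (Finset.mem_univ n)
    have h7 : (7 : ℤ) ≤ ∑ m ∈ Finset.univ.erase n, x (eightIdx e' m) * x (eightIdx e' m) := by
      calc (7 : ℤ) = ∑ _m ∈ Finset.univ.erase n, (1 : ℤ) := by
            simp [Finset.card_erase_of_mem]
        _ ≤ _ := Finset.sum_le_sum fun m _ => hone m
    have := hone n
    have hx1 : x (eightIdx e' n) * x (eightIdx e' n) = 1 := by linarith
    exact Int.eq_one_or_neg_one_of_mul_eq_one hx1
  obtain ⟨s, hs⟩ := exists_signs fun n => decide (x (eightIdx e' n) = 1)
  obtain ⟨k, hk⟩ := eight_signs e' s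
  have h4 := dot_mem hx (gen_mem k)
  have hd : dot x (gen k) = ((List.finRange 8).map fun n : Fin 8 =>
      (if s.val.testBit n.val then 1 else -1) * gen k (eightIdx e' n)).sum := by
    rw [dot, ← Finset.sum_subset (Finset.subset_univ P) (fun i _ hi => ?_),
      Finset.sum_image (fun a _ b _ h => hinj h), ← List.sum_toFinset _ (List.nodup_finRange 8),
      List.toFinset_finRange]
    · refine Finset.sum_congr rfl fun n _ => ?_
      rw [hs n]
      rcases hpm n with h | h <;> simp [h]
    · rw [hout i (fun n h => hi (Finset.mem_image.2 ⟨n, Finset.mem_univ n, h⟩)), zero_mul]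
  rw [hd] at h4
  exact hk (Int.emod_eq_zero_of_dvd h4)

theorem pair_check : ∀ i j : Fin 56, i ≠ j → ∃ k : Fin 40, (gen k i + gen k j) % 2 = 1 := by
  decide +kernel

theorem dot_gt_eight {x : Fin 56 → ℤ} (hx : x ∈ span) (h0 : x ≠ 0) : 8 < dot x x := by
  obtain ⟨w, hbit, hcases⟩ := word_cases hx
  have hle : (weight w : ℤ) ≤ dot x x := by
    rw [weight_eq, Finset.sum_range, Nat.cast_sum, dot]
    refine Finset.sum_le_sum fun i _ => ?_
    rw [hbit i]
    by_cases h : x i % 2 = 1
    · simp only [h, decide_true, Bool.toNat_true, Nat.cast_one]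
      have h1 : x i ≠ 0 := fun e => by rw [e] at h; norm_num at h
      have := mul_self_pos.2 h1
      omega
    · simp only [h, decide_false, Bool.toNat_false, Nat.cast_zero]
      exact mul_self_nonneg _
  rcases hcases with hz | hb | hmem
  rotate_left
  · omega
  · exact not_eight hx hmem hbit
  have heven : ∀ i, 2 ∣ x i := fun i => by
    have := hbit i
    rw [hz, Nat.zero_testBit] at this
    have h2 : ¬ x i % 2 = 1 := fun e => by simp [e] at this
    omega
  choose y hy using heven
  have hdot : dot x x = 4 * dot y y := by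
    simp only [dot, hy, Finset.mul_sum]
    exact Finset.sum_congr rfl fun i _ => by ring
  by_contra hcon
  have hyle : dot y y ≤ 2 := by omega
  have hdvd := sq_mem hx
  have hne : dot y y ≠ 0 := by
    intro e
    refine h0 (funext fun i => ?_)
    have := (Finset.sum_eq_zero_iff_of_nonneg fun i _ => mul_self_nonneg (y i)).1 e i (Finset.mem_univ i)
    rw [hy i, mul_self_eq_zero.1 this]
    rfl
  have hpos : 0 ≤ dot y y := Finset.sum_nonneg fun i _ => mul_self_nonneg _
  have hy2 : dot y y = 2 := by omega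
  obtain ⟨i, hi⟩ : ∃ i, y i ≠ 0 := by
    by_contra h
    push Not at h
    exact hne (Finset.sum_eq_zero fun i _ => by simp [h i])
  have hsplit := Finset.add_sum_erase Finset.univ (fun k => y k * y k) (Finset.mem_univ i)
  have hdef : ∑ k, y k * y k = 2 := hy2
  have hi1 : y i * y i = 1 := by
    have h1 := mul_self_pos.2 hi
    have h2 : 0 ≤ ∑ k ∈ Finset.univ.erase i, y k * y k := Finset.sum_nonneg fun k _ => mul_self_nonneg _
    have h3 : y i * y i ≤ 2 := by linarith
    have h4 : y i ≤ 1 := by nlinarith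
    have h5 : -1 ≤ y i := by nlinarith
    interval_cases (y i) <;> simp_all
  have hrest : ∑ k ∈ Finset.univ.erase i, y k * y k = 1 := by linarith
  obtain ⟨j, hj, hj0⟩ : ∃ j ∈ Finset.univ.erase i, y j * y j ≠ 0 :=
    Finset.exists_ne_zero_of_sum_ne_zero (by rw [hrest]; norm_num)
  have hsplit2 := Finset.add_sum_erase _ (fun k => y k * y k) hj
  have hj1 : y j * y j = 1 := by
    have h2 : 0 ≤ ∑ k ∈ (Finset.univ.erase i).erase j, y k * y k :=
      Finset.sum_nonneg fun k _ => mul_self_nonneg _
    have h1 : 0 < y j * y j := lt_of_le_of_ne (mul_self_nonneg _) (Ne.symm hj0)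
    linarith
  have hothers : ∀ k, k ≠ i → k ≠ j → y k = 0 := by
    intro k hki hkj
    have h2 : ∑ k ∈ (Finset.univ.erase i).erase j, y k * y k = 0 := by linarith
    exact mul_self_eq_zero.1 ((Finset.sum_eq_zero_iff_of_nonneg fun k _ => mul_self_nonneg (y k)).1 h2 k
      (Finset.mem_erase.2 ⟨hkj, Finset.mem_erase.2 ⟨hki, Finset.mem_univ k⟩⟩))
  have hij : i ≠ j := fun e => (Finset.mem_erase.1 hj).1 e.symm
  obtain ⟨k, hk⟩ := pair_check i j hij
  have h4 := dot_mem hx (gen_mem k)
  have hd : dot x (gen k) = 2 * y i * gen k i + 2 * y j * gen k j := by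
    simp only [dot, hy]
    rw [Finset.sum_eq_add i j hij]
    · intro c _ hc
      rw [hothers c hc.1 hc.2]; ring
    · simp
    · simp
  have unit : ∀ a : ℤ, a * a = 1 → a = 1 ∨ a = -1 := fun a ha => by
    rcases Int.eq_one_or_neg_one_of_mul_eq_one ha with h | h
    · exact Or.inl h
    · exact Or.inr h
  rw [hd] at h4
  rcases unit _ hi1 with e1 | e1 <;> rcases unit _ hj1 with e2 | e2 <;> rw [e1, e2] at h4 <;> omega

theorem norm_dvd {x : RuVec} (hx : x ∈ ruLattice) : (8 : ℤ) ∣ ruNorm x := by
  rw [← sum_sq_flat]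
  exact sq_mem (flat_mem hx)

theorem norm_ge {x : RuVec} (hx : x ∈ ruLattice) (h0 : x ≠ 0) : 16 ≤ ruNorm x := by
  have h1 := norm_dvd hx
  have h2 := dot_gt_eight (flat_mem hx) fun e => h0 (flat_injective (e.trans flat_zero.symm))
  rw [show dot (flat x) (flat x) = ruNorm x from sum_sq_flat x] at h2
  omega

theorem exists_norm_sixteen : ∃ x ∈ ruLattice, ruNorm x = 16 := by
  refine ⟨ruTable.getD 0 0, ?_, by decide +kernel⟩
  rw [ruLattice, AddSubgroup.mem_sInf]
  intro L hL
  refine hL.1 _ ?_
  rw [List.getD_eq_getElem _ _ (by rw [table_length]; norm_num)]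
  exact List.getElem_mem _

end CfsgLib.Recognition.RuLattice
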